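import Cfsg.Agent.H45.Thin.Mathieu
import Cfsg.Prelude.Def_Spor_Conway
import Cfsg.Agent.SporadicA.Co0Mono

/-!
# Thin groups (S2028): `M₂₂` in `McL` and `HS` (helper45)
-/

set_option autoImplicit false

namespace Cfsg.Agent.H45.Thin.Leech

open Cfsg Subgroup Cfsg.Agent.SporadicA.Co0Mono
open Cfsg.Agent.ETable (Wit)

theorem le_M24 {g : Equiv.Perm GolayPt} (hg : g ∈ Spor.M22) : g ∈ M24 := hg.1.1
theorem fix_none {g : Equiv.Perm GolayPt} (hg : g ∈ Spor.M22) : g none = none := hg.1.2
theorem fix_zero {g : Equiv.Perm GolayPt} (hg : g ∈ Spor.M22) : g (some 0) = some 0 := hg.2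

theorem fix_vec {g : Equiv.Perm GolayPt} (hg : g ∈ Spor.M22) (p : GolayPt) :
    (g.symm p = none ↔ p = none) ∧ (g.symm p = some 0 ↔ p = some 0) := by
  constructor
  · rw [Equiv.symm_apply_eq, fix_none hg]
  · rw [Equiv.symm_apply_eq, fix_zero hg]

/-- The embedding of `M₂₂` into `Co0`. -/
noncomputable def emb : Spor.M22 →* Co0 := permCo0.comp (Subgroup.inclusion (fun _ hg => le_M24 hg))

theorem emb_coe (g : Spor.M22) (v : leechLattice) (p : GolayPt) :
    ((emb g • v : leechLattice) : GolayPt → ℤ) p = (v : GolayPt → ℤ) ((g : Equiv.Perm GolayPt).symm p) := rfl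

theorem emb_U (g : Spor.M22) : emb g • Spor.leechU = Spor.leechU := by
  apply Subtype.ext
  funext p
  rw [emb_coe]
  show Spor.vecU _ = Spor.vecU _
  simp only [Spor.vecU, (fix_vec g.2 p).1, (fix_vec g.2 p).2]

theorem emb_U' (g : Spor.M22) : emb g • Spor.leechU' = Spor.leechU' := by
  apply Subtype.ext
  funext p
  rw [emb_coe]
  show Spor.vecU' _ = Spor.vecU' _
  simp only [Spor.vecU', (fix_vec g.2 p).1, (fix_vec g.2 p).2]

theorem emb_V (g : Spor.M22) : emb g • Spor.leechV = Spor.leechV := by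
  apply Subtype.ext
  funext p
  rw [emb_coe]
  show Spor.vecV _ = Spor.vecV _
  simp only [Spor.vecV, (fix_vec g.2 p).1]

/-- The embedding of `M₂₂` into `McL`. -/
noncomputable def embM : Spor.M22 →* Spor.McL :=
  (Co0.subtype.comp emb).codRestrict Spor.McL (fun g => ⟨⟨(emb g).2, emb_V g⟩, emb_U g⟩)

/-- The embedding of `M₂₂` into `HS`. -/
noncomputable def embH : Spor.M22 →* Spor.HS :=
  (Co0.subtype.comp emb).codRestrict Spor.HS (fun g => ⟨⟨(emb g).2, emb_V g⟩, emb_U' g⟩)

/-- the vector `8 e_i`. -/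
theorem eight_mem (i : GolayPt) : (fun p => if p = i then (8 : ℤ) else 0) ∈ leechSet := by
  refine Spor.mem_leechSet_of_const_mod_four _ 0 0 (by decide) (fun p => ?_) ?_
  · show (if p = i then (8 : ℤ) else 0) ≡ 0 [ZMOD 4]
    split_ifs
    · decide
    · decide
  · rw [Finset.sum_ite_eq' Finset.univ i (fun _ => (8 : ℤ)), if_pos (Finset.mem_univ i)]
    decide

theorem emb_eq_one {g : Spor.M22} (h0 : emb g = 1) : g = 1 := by
  apply Subtype.ext
  apply Equiv.ext
  intro i
  show (g : Equiv.Perm GolayPt) i = i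
  let v : leechLattice := ⟨_, AddSubgroup.subset_closure (eight_mem i)⟩
  have h1 : emb g • v = v := by rw [h0, one_smul]
  have h2 : ((emb g • v : leechLattice) : GolayPt → ℤ) ((g : Equiv.Perm GolayPt) i) =
      (v : GolayPt → ℤ) ((g : Equiv.Perm GolayPt) i) := by rw [h1]
  rw [emb_coe, Equiv.symm_apply_apply] at h2
  have h3 : (if i = i then (8 : ℤ) else 0) = if (g : Equiv.Perm GolayPt) i = i then (8 : ℤ) else 0 := h2
  by_contra hne
  rw [if_pos rfl, if_neg hne] at h3
  exact absurd h3 (by norm_num)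

theorem embM_injective : Function.Injective embM := by
  rw [injective_iff_map_eq_one]
  intro g hg
  have h00 : ((embM g : Spor.McL) : Equiv.Perm leechLattice) = 1 := by rw [hg]; rfl
  exact emb_eq_one (Subtype.ext h00)

theorem embH_injective : Function.Injective embH := by
  rw [injective_iff_map_eq_one]
  intro g hg
  have h00 : ((embH g : Spor.HS) : Equiv.Perm leechLattice) = 1 := by rw [hg]; rfl
  exact emb_eq_one (Subtype.ext h00)

/-- **`McL`.** -/
theorem mcl : Wit 3 2 Spor.McL := Mathieu.m22.of_injective embM embM_injective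

/-- **`HS`.** -/
theorem hs : Wit 3 2 Spor.HS := Mathieu.m22.of_injective embH embH_injective

end Cfsg.Agent.H45.Thin.Leech
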