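import Cfsg.Agent.H45.Thin.Base
import Cfsg.Agent.SporadicA.GolayWalk
import Cfsg.Prelude.Def_Spor_Mathieu

/-!
# Thin groups (S2028): alternating groups and the Mathieu groups (helper45)

* `alt` : `Wit 3 2 A_n`, `n ≥ 7`;
* `m12`, `m22`, `m23`, `m24` : `Wit 3 2` of the Mathieu groups of degree 12, 22, 23, 24.
-/

set_option autoImplicit false
set_option maxRecDepth 100000

namespace Cfsg.Agent.H45.Thin.Mathieu

open Cfsg Subgroup
open Cfsg.Agent.ETable (Wit)
open Cfsg.Agent.SporadicA.GolayWalk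
open scoped Pointwise

/-! ### Alternating groups -/

/-- `(0 1 2)` -/
def ax : Equiv.Perm (Fin 7) := ⟨![1, 2, 0, 3, 4, 5, 6], ![2, 0, 1, 3, 4, 5, 6], by decide, by decide⟩
/-- `(4 5 6)` -/
def ay : Equiv.Perm (Fin 7) := ⟨![0, 1, 2, 3, 5, 6, 4], ![0, 1, 2, 3, 6, 4, 5], by decide, by decide⟩
/-- `(3 4)(5 6)` -/
def at' : Equiv.Perm (Fin 7) := ⟨![0, 1, 2, 4, 3, 6, 5], ![0, 1, 2, 4, 3, 6, 5], by decide, by decide⟩

theorem sgn : Equiv.Perm.sign ax = 1 ∧ Equiv.Perm.sign ay = 1 ∧ Equiv.Perm.sign at' = 1 := by decide +kernel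

theorem ax3 : ax ^ 3 = 1 := by decide +kernel
theorem ay3 : ay ^ 3 = 1 := by decide +kernel
theorem ax1 : ax ≠ 1 := by decide +kernel
theorem axy : ax * ay = ay * ax := by decide +kernel
theorem att : at' * at' = 1 := by decide +kernel
theorem axt : ax * at' = at' * ax := by decide +kernel
theorem ayt : ay * at' ≠ at' * ay := by decide +kernel
theorem a4 : at' * (ay * at' * ay⁻¹) * (ay * (ay * at' * ay⁻¹) * ay⁻¹) = 1 := by decide +kernel

/-- **`A_n`, `n ≥ 7`.** -/
theorem alt (n : ℕ) (hn : 7 ≤ n) : Wit 3 2 (alternatingGroup (Fin n)) := by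
  have hc : Fintype.card (Fin 7) ≤ Fintype.card (Fin n) := by simpa using hn
  obtain ⟨ι⟩ := Function.Embedding.nonempty_of_card_le hc
  let g : Equiv.Perm (Fin 7) →* Equiv.Perm (Fin n) := Equiv.Perm.viaEmbeddingHom ι
  have hg : Function.Injective g := Equiv.Perm.viaEmbeddingHom_injective ι
  have hs : ∀ v : Equiv.Perm (Fin 7), v ^ 3 = 1 → g v ∈ alternatingGroup (Fin n) := by
    intro v hv
    have h4 : v ^ 4 = v := by rw [pow_succ, hv, one_mul]
    rw [Equiv.Perm.mem_alternatingGroup, ← h4, map_pow, map_pow]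
    rcases Int.units_eq_one_or (Equiv.Perm.sign (g v)) with h | h <;> rw [h] <;> decide
  have hx := hs _ ax3
  have hy := hs _ ay3
  have ht : g at' ∈ alternatingGroup (Fin n) := by
    have e : at' = ay * (ay * at' * ay⁻¹ * at') * ay⁻¹ := by decide +kernel
    have : g at' = g ay * (g ay * g at' * (g ay)⁻¹ * g at') * (g ay)⁻¹ := by
      rw [← map_inv, ← map_mul, ← map_mul, ← map_mul, ← map_mul, ← map_mul, ← e]
    rw [Equiv.Perm.mem_alternatingGroup, this]
    simp only [map_mul, map_inv]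
    rcases Int.units_eq_one_or (Equiv.Perm.sign (g ay)) with h | h <;>
      rcases Int.units_eq_one_or (Equiv.Perm.sign (g at')) with h' | h' <;> rw [h, h'] <;> decide
  refine wit_of_four (x := (⟨g ax, hx⟩ : alternatingGroup (Fin n))) (y := ⟨g ay, hy⟩) (t := ⟨g at', ht⟩)
    ?_ ?_ ?_ ?_ ?_ ?_ ?_ ?_
  · exact Subtype.ext (show g ax ^ 3 = 1 by rw [← map_pow, ax3, map_one])
  · intro h
    exact ax1 (hg (by rw [map_one]; exact congrArg Subtype.val h))
  · exact Subtype.ext (show g ay ^ 3 = 1 by rw [← map_pow, ay3, map_one])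
  · exact Subtype.ext (show g ax * g ay = g ay * g ax by rw [← map_mul, ← map_mul, axy])
  · exact Subtype.ext (show g at' * g at' = 1 by rw [← map_mul, att, map_one])
  · exact Subtype.ext (show g ax * g at' = g at' * g ax by rw [← map_mul, ← map_mul, axt])
  · intro h
    have h1 : g ay * g at' = g at' * g ay := congrArg Subtype.val h
    rw [← map_mul, ← map_mul] at h1
    exact ayt (hg h1)
  · exact Subtype.ext (show g at' * (g ay * g at' * (g ay)⁻¹) * (g ay * (g ay * g at' * (g ay)⁻¹) * (g ay)⁻¹) = 1 by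
      rw [← map_inv, ← map_mul, ← map_mul, ← map_mul, ← map_mul, ← map_mul, ← map_mul, a4, map_one])

/-! ### Mathieu groups -/

/-- The point of index `i` (the index of the extra point is 23). -/
def ptI (i : ℕ) : GolayPt := cond (Nat.beq i 23) none (some (i : ZMod 23))

/-- The function with a given table. -/
def fn (t : List ℕ) (p : GolayPt) : GolayPt := ptI (t.getD (idx p) 0)

/-- The involution with a given table. -/
def mk2 (t : List ℕ) (h : ∀ p, fn t (fn t p) = p) : Equiv.Perm GolayPt := ⟨fn t, fn t, h, h⟩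

/-- The permutation of order three with a given table. -/
def mk3 (t : List ℕ) (h : ∀ p, fn t (fn t (fn t p)) = p) : Equiv.Perm GolayPt :=
  ⟨fn t, fun p => fn t (fn t p), h, h⟩

/-- table -/
def tx : List ℕ := [0, 10, 7, 2, 1, 8, 5, 3, 6, 19, 4, 15, 12, 11, 14, 13, 22, 16, 18, 20, 9, 21, 17, 23]
/-- table -/
def tt : List ℕ := [0, 8, 2, 3, 5, 4, 10, 7, 1, 17, 6, 11, 18, 13, 21, 15, 19, 9, 12, 16, 22, 14, 20, 23]
/-- table -/
def ty : List ℕ := [0, 10, 2, 3, 1, 22, 16, 7, 17, 5, 4, 13, 12, 15, 18, 11, 20, 19, 21, 8, 6, 14, 9, 23]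

theorem hx : ∀ p, fn tx (fn tx (fn tx p)) = p := by decide +kernel
theorem hy : ∀ p, fn ty (fn ty (fn ty p)) = p := by decide +kernel
theorem ht : ∀ p, fn tt (fn tt p) = p := by decide +kernel

/-- element of order 3 -/
def gx : Equiv.Perm GolayPt := mk3 tx hx
/-- element of order 3 -/
def gy : Equiv.Perm GolayPt := mk3 ty hy
/-- involution -/
def gt : Equiv.Perm GolayPt := mk2 tt ht

theorem gx_mem : gx ∈ M24 := mem_M24_of_table _ tx rfl (by decide +kernel) (by decide +kernel)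
theorem gy_mem : gy ∈ M24 := mem_M24_of_table _ ty rfl (by decide +kernel) (by decide +kernel)
theorem gt_mem : gt ∈ M24 := mem_M24_of_table _ tt rfl (by decide +kernel) (by decide +kernel)

theorem stab_mem {g : Equiv.Perm GolayPt} (hg : g ∈ M24) (h0 : g none = none) (h1 : g (some 0) = some 0) :
    g ∈ Spor.M22 := ⟨⟨hg, h0⟩, h1⟩

theorem gx_mem22 : gx ∈ Spor.M22 := stab_mem gx_mem (by decide +kernel) (by decide +kernel)
theorem gy_mem22 : gy ∈ Spor.M22 := stab_mem gy_mem (by decide +kernel) (by decide +kernel)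
theorem gt_mem22 : gt ∈ Spor.M22 := stab_mem gt_mem (by decide +kernel) (by decide +kernel)

theorem gx3 : gx ^ 3 = 1 := Equiv.ext (by decide +kernel)
theorem gy3 : gy ^ 3 = 1 := Equiv.ext (by decide +kernel)
theorem gxy : gx * gy = gy * gx := Equiv.ext (by decide +kernel)
theorem gtt : gt * gt = 1 := Equiv.ext (by decide +kernel)
theorem gxt : gx * gt = gt * gx := Equiv.ext (by decide +kernel)
theorem g4 : gt * (gy * gt * gy⁻¹) * (gy * (gy * gt * gy⁻¹) * gy⁻¹) = 1 := Equiv.ext (by decide +kernel)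
theorem gx1 : gx ≠ 1 := fun h => absurd (DFunLike.congr_fun h (some 1)) (by decide +kernel)
theorem gyt : gy * gt ≠ gt * gy := fun h => by
  have h1 : ∀ p, gy (gt p) = gt (gy p) := fun p => DFunLike.congr_fun h p
  revert h1
  decide +kernel

/-- **`M₂₂`.** -/
theorem m22 : Wit 3 2 Spor.M22 := by
  refine wit_of_four (x := (⟨gx, gx_mem22⟩ : Spor.M22)) (y := ⟨gy, gy_mem22⟩) (t := ⟨gt, gt_mem22⟩)
    (Subtype.ext gx3) ?_ (Subtype.ext gy3) (Subtype.ext gxy) (Subtype.ext gtt) (Subtype.ext gxt) ?_ (Subtype.ext g4)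
  · exact fun h => gx1 (congrArg Subtype.val h)
  · exact fun h => gyt (congrArg Subtype.val h)

theorem m23 : Wit 3 2 Spor.M23 :=
  m22.of_injective (Subgroup.inclusion (inf_le_left : Spor.M22 ≤ Spor.M23)) (Subgroup.inclusion_injective _)

theorem m24 : Wit 3 2 M24 :=
  m23.of_injective (Subgroup.inclusion (inf_le_left : Spor.M23 ≤ M24)) (Subgroup.inclusion_injective _)

/-! `M₁₂` -/

/-- table -/
def ux : List ℕ := [4, 12, 8, 18, 13, 17, 2, 11, 6, 3, 22, 20, 16, 0, 23, 5, 1, 15, 9, 10, 7, 14, 19, 21]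
/-- table -/
def ut : List ℕ := [2, 18, 0, 16, 8, 23, 13, 22, 4, 12, 20, 19, 9, 6, 15, 14, 3, 21, 1, 11, 10, 17, 7, 5]
/-- table -/
def uy : List ℕ := [13, 8, 18, 12, 0, 14, 3, 20, 9, 1, 17, 7, 6, 4, 19, 21, 2, 23, 16, 5, 11, 22, 15, 10]

theorem kx : ∀ p, fn ux (fn ux (fn ux p)) = p := by decide +kernel
theorem ky : ∀ p, fn uy (fn uy (fn uy p)) = p := by decide +kernel
theorem kt : ∀ p, fn ut (fn ut p) = p := by decide +kernel

/-- element of order 3 -/
def lx : Equiv.Perm GolayPt := mk3 ux kx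
/-- element of order 3 -/
def ly : Equiv.Perm GolayPt := mk3 uy ky
/-- involution -/
def lt : Equiv.Perm GolayPt := mk2 ut kt

theorem lx_mem : lx ∈ M24 := mem_M24_of_table _ ux rfl (by decide +kernel) (by decide +kernel)
theorem ly_mem : ly ∈ M24 := mem_M24_of_table _ uy rfl (by decide +kernel) (by decide +kernel)
theorem lt_mem : lt ∈ M24 := mem_M24_of_table _ ut rfl (by decide +kernel) (by decide +kernel)

theorem lx_sq : lx • Spor.squareDodecad = Spor.squareDodecad := by decide +kernel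
theorem ly_sq : ly • Spor.squareDodecad = Spor.squareDodecad := by decide +kernel
theorem lt_sq : lt • Spor.squareDodecad = Spor.squareDodecad := by decide +kernel

theorem lx3 : lx ^ 3 = 1 := Equiv.ext (by decide +kernel)
theorem ly3 : ly ^ 3 = 1 := Equiv.ext (by decide +kernel)
theorem lxy : lx * ly = ly * lx := Equiv.ext (by decide +kernel)
theorem ltt : lt * lt = 1 := Equiv.ext (by decide +kernel)
theorem lxt : lx * lt = lt * lx := Equiv.ext (by decide +kernel)
theorem l4 : lt * (ly * lt * ly⁻¹) * (ly * (ly * lt * ly⁻¹) * ly⁻¹) = 1 := Equiv.ext (by decide +kernel)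
theorem lx1 : lx ≠ 1 := fun h => absurd (DFunLike.congr_fun h (some 1)) (by decide +kernel)
theorem lyt : ly * lt ≠ lt * ly := fun h => by
  have h1 : ∀ p, ly (lt p) = lt (ly p) := fun p => DFunLike.congr_fun h p
  revert h1
  decide +kernel

/-- **`M₁₂`.** -/
theorem m12 : Wit 3 2 Spor.M12 := by
  refine wit_of_four (x := (⟨lx, ⟨lx_mem, lx_sq⟩⟩ : Spor.M12)) (y := ⟨ly, ⟨ly_mem, ly_sq⟩⟩)
    (t := ⟨lt, ⟨lt_mem, lt_sq⟩⟩)
    (Subtype.ext lx3) ?_ (Subtype.ext ly3) (Subtype.ext lxy) (Subtype.ext ltt) (Subtype.ext lxt) ?_ (Subtype.ext l4)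
  · exact fun h => lx1 (congrArg Subtype.val h)
  · exact fun h => lyt (congrArg Subtype.val h)

end Cfsg.Agent.H45.Thin.Mathieu
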