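import Mathlib
import Cfsg.Agent.ETable.Base
import Cfsg.Agent.QTKE.Base

/-!
# Thin groups (S2028): frame (helper45)

* `Thin G` : all odd Sylow subgroups of the 2-local subgroups of `G` are cyclic;
* `Thin.not_wit` : a thin group has no witness `Wit p 2 G`, `p` odd;
* `Thin.not_wide` : a thin group is not `Wide`;
* `wit_of_two` : a nontrivial 2-subgroup normalised by two commuting elements `x`, `y` of order `p`, `y ∉ ⟨x⟩`;
* `wit_of_four` : the four-group version: `x` centralises an involution `t`, `y` generates with `t` an `A₄`.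
-/

set_option autoImplicit false
set_option linter.unnecessarySimpa false

namespace Cfsg.Agent.H45.Thin

open Cfsg Subgroup
open Cfsg.Agent.ETable (Wit)

/-- all odd Sylow subgroups of the 2-local subgroups are cyclic -/
def IsThin (G : Type*) [Group G] : Prop :=
  ∀ M : Subgroup G, Cfsg.IsTwoLocal M → ∀ p : ℕ, p.Prime → p ≠ 2 → ∀ P : Sylow p ↥M, IsCyclic ↥P

variable {G H : Type*} [Group G] [Group H] {p : ℕ}

/-- an elementary abelian `p`-subgroup of a group with cyclic Sylow `p`-subgroups has order at most `p` -/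
theorem card_le_of_cyclic [Finite G] (hp : p.Prime) (h : ∀ P : Sylow p G, IsCyclic ↥P) {A : Subgroup G}
    (hA : ∀ a ∈ A, a ^ p = 1) : Nat.card A ≤ p := by
  have : Fact p.Prime := ⟨hp⟩
  have hAp : IsPGroup p A := fun a => ⟨1, Subtype.ext (by
    rw [pow_one]
    exact hA a a.2)⟩
  obtain ⟨P, hP⟩ := hAp.exists_le_sylow
  have hc := h P
  have h1 : IsCyclic (A.subgroupOf (P : Subgroup G)) := inferInstance
  have h2 : IsCyclic A := (MulEquiv.isCyclic (Subgroup.subgroupOfEquivOfLe hP)).1 h1
  obtain ⟨g, hg⟩ := h2.exists_generator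
  have h3 : orderOf g = Nat.card A := orderOf_eq_card_of_forall_mem_zpowers hg
  have h4 : g ^ p = 1 := Subtype.ext (hA g g.2)
  rw [← h3]
  exact orderOf_le_of_pow_eq_one hp.pos h4

theorem IsThin.not_wit [Finite G] (h : IsThin G) (hp : p.Prime) (hp2 : p ≠ 2) : ¬ Wit p 2 G := by
  rintro ⟨T, E, hT, hT1, hE, hEp, hc, hn⟩
  have h1 := card_le_of_cyclic hp (h (normalizer (T : Set G)) ⟨T, hT, hT1, rfl⟩ p hp hp2)
    (A := E.subgroupOf (normalizer (T : Set G))) (fun a ha => Subtype.ext (hEp _ ha))
  have h2 : Nat.card (E.subgroupOf (normalizer (T : Set G))) = Nat.card E :=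
    Nat.card_congr (Subgroup.subgroupOfEquivOfLe hn).toEquiv
  rw [h2] at h1
  have h3 := hp.one_lt
  nlinarith [hc, h1]

theorem IsThin.rank [Finite G] (h : IsThin G) {k : ℕ} (hk : 1 ≤ k) : OddTwoLocalRankLE k G := by
  intro p hp hp2 M hM A hA hAp
  exact (card_le_of_cyclic hp (h M hM p hp hp2) hAp).trans (Nat.le_self_pow (by omega) p)

theorem IsThin.not_wide [Finite G] (h : IsThin G) : ¬ Cfsg.Agent.QTKE.Wide G := fun hw => hw (h.rank (by norm_num))

theorem IsThin.congr (e : G ≃* H) (h : IsThin G) : IsThin H := by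
  intro M hM p hp hp2 P
  have hM' : IsTwoLocal (M.comap e.toMonoidHom) := by
    obtain ⟨T, hT, hT1, rfl⟩ := hM
    refine ⟨T.comap e.toMonoidHom, hT.comap_of_injective e.toMonoidHom e.injective, ?_, ?_⟩
    · intro h0
      apply hT1
      rw [eq_bot_iff]
      intro x hx
      have h1 : e.symm x ∈ T.comap e.toMonoidHom := by
        rw [mem_comap]
        simpa using hx
      rw [h0, mem_bot] at h1
      rw [mem_bot]
      simpa using h1
    · ext x
      rw [mem_comap, mem_normalizer_iff, mem_normalizer_iff]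
      constructor
      · intro h1 y
        have h2 := h1 (e y)
        rw [mem_comap, mem_comap]
        simpa using h2
      · intro h1 y
        have h2 := h1 (e.symm y)
        rw [mem_comap, mem_comap] at h2
        simpa using h2
  let f : ↥(M.comap e.toMonoidHom) ≃* ↥M :=
    { toFun := fun x => ⟨e x, x.2⟩
      invFun := fun x => ⟨e.symm x, by
        rw [mem_comap]
        simpa using x.2⟩
      left_inv := fun x => Subtype.ext (e.symm_apply_apply _)
      right_inv := fun x => Subtype.ext (e.apply_symm_apply _)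
      map_mul' := fun x y => Subtype.ext (map_mul e _ _) }
  have h1 := h (M.comap e.toMonoidHom) hM' p hp hp2 (P.comapOfInjective f.toMonoidHom f.injective (by
    intro x _
    exact ⟨f.symm x, f.apply_symm_apply x⟩))
  have h2 : ↥(P.comapOfInjective f.toMonoidHom f.injective (by
    intro x _
    exact ⟨f.symm x, f.apply_symm_apply x⟩)) ≃* ↥P :=
    { toFun := fun x => ⟨f x, x.2⟩
      invFun := fun x => ⟨f.symm x, by
        show f (f.symm x) ∈ P
        rw [f.apply_symm_apply]
        exact x.2⟩
      left_inv := fun x => Subtype.ext (f.symm_apply_apply _)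
      right_inv := fun x => Subtype.ext (f.apply_symm_apply _)
      map_mul' := fun x y => Subtype.ext (map_mul f _ _) }
  exact (MulEquiv.isCyclic h2).1 h1

/-- two commuting elements of order `p` normalising a nontrivial 2-subgroup -/
theorem wit_of_two (hp : p.Prime) {x y : G} (hx : x ^ p = 1) (hx1 : x ≠ 1) (hy : y ^ p = 1) (hyx : y ∉ zpowers x)
    (hxy : x * y = y * x) (T : Subgroup G) (hT : IsPGroup 2 T) (hT1 : T ≠ ⊥)
    (hnx : x ∈ normalizer (T : Set G)) (hny : y ∈ normalizer (T : Set G)) : Wit p 2 G := by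
  have hcomm : ∀ a ∈ closure {x, y}, ∀ b ∈ closure {x, y}, a * b = b * a := by
    have h1 : IsMulCommutative (closure {x, y}) := by
      refine Subgroup.isMulCommutative_closure ?_
      rintro a (rfl | rfl) b (rfl | rfl)
      · rfl
      · exact hxy
      · exact hxy.symm
      · rfl
    intro a ha b hb
    exact congrArg (fun z : closure {x, y} => (z : G)) (h1.is_comm.comm ⟨a, ha⟩ ⟨b, hb⟩)
  refine ⟨T, closure {x, y}, hT, hT1, ⟨⟨fun a b => Subtype.ext (hcomm a a.2 b b.2)⟩⟩, ?_, ?_, ?_⟩
  · intro a ha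
    induction ha using Subgroup.closure_induction with
    | mem a ha => rcases ha with rfl | rfl <;> assumption
    | one => exact one_pow p
    | mul a b ha hb iha ihb =>
      rw [(show Commute a b from hcomm a ha b hb).mul_pow, iha, ihb, one_mul]
    | inv a ha ih => rw [inv_pow, ih, inv_one]
  · have : Fact p.Prime := ⟨hp⟩
    have hxo : orderOf x = p := orderOf_eq_prime hx hx1
    have mx : x ∈ closure {x, y} := Subgroup.subset_closure (Set.mem_insert _ _)
    have my : y ∈ closure {x, y} := Subgroup.subset_closure (Set.mem_insert_of_mem _ rfl)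
    let f : Fin p × Fin p → closure {x, y} := fun a =>
      ⟨x ^ (a.1 : ℕ) * y ^ (a.2 : ℕ), mul_mem (pow_mem mx _) (pow_mem my _)⟩
    have hy1 : y ≠ 1 := fun h => hyx (by rw [h]; exact one_mem _)
    have hyo : orderOf y = p := orderOf_eq_prime hy hy1
    have key : ∀ n : ℤ, y ^ n ∈ zpowers x → (p : ℤ) ∣ n := by
      intro n hn
      by_contra hd
      have hcop : IsCoprime (p : ℤ) n := (Nat.prime_iff_prime_int.1 hp).irreducible.coprime_iff_not_dvd.2 hd
      obtain ⟨a, b, hab⟩ := hcop
      apply hyx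
      have h1 : y = (y ^ n) ^ b := by
        have h2 : (y ^ (p : ℤ)) ^ a * y ^ (n * b) = y := by
          rw [← zpow_mul, ← zpow_add]
          have : (p : ℤ) * a + n * b = 1 := by rw [← hab]; ring
          rw [this, zpow_one]
        rw [zpow_natCast, hy, one_zpow, one_mul, zpow_mul] at h2
        exact h2.symm
      rw [h1]
      exact zpow_mem hn b
    have hf : Function.Injective f := by
      rintro ⟨a, b⟩ ⟨c, d⟩ h
      have h1 : x ^ (a : ℕ) * y ^ (b : ℕ) = x ^ (c : ℕ) * y ^ (d : ℕ) := congrArg (fun z : closure {x, y} => (z : G)) h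
      have h2 : y ^ ((b : ℤ) - (d : ℤ)) = x ^ ((c : ℤ) - (a : ℤ)) := by
        have e1 : y ^ (b : ℕ) * (y ^ (d : ℕ))⁻¹ = (x ^ (a : ℕ))⁻¹ * x ^ (c : ℕ) := by
          rw [eq_inv_mul_iff_mul_eq, ← mul_assoc, h1, mul_inv_cancel_right]
        rw [zpow_sub, zpow_natCast, zpow_natCast, e1, zpow_sub, zpow_natCast, zpow_natCast]
        have h3 : Commute (x ^ (a : ℕ))⁻¹ (x ^ (c : ℕ)) := ((Commute.refl x).pow_pow _ _).inv_left
        exact h3.eq
      have h3 := key _ (by rw [h2]; exact zpow_mem (mem_zpowers x) _)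
      have h4 : (b : ℤ) - (d : ℤ) = 0 := by
        refine Int.eq_zero_of_abs_lt_dvd h3 ?_
        rw [abs_lt]
        have := b.isLt
        have := d.isLt
        constructor <;> omega
      have hbd : b = d := Fin.ext (by omega)
      subst hbd
      have h5 : x ^ (a : ℕ) = x ^ (c : ℕ) := mul_right_cancel h1
      have h6 := pow_injOn_Iio_orderOf (x := x) (by rw [hxo]; exact a.isLt) (by rw [hxo]; exact c.isLt) h5
      rw [Fin.ext h6]
    have hfin : Finite (closure {x, y} : Subgroup G) := by
      have hfg : Group.FG (closure {x, y} : Subgroup G) := by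
        rw [Group.fg_iff_subgroup_fg]
        classical
        exact ⟨({x, y} : Finset G), by simp⟩
      letI : CommGroup (closure {x, y} : Subgroup G) :=
        { (inferInstance : Group (closure {x, y} : Subgroup G)) with
          mul_comm := fun a b => Subtype.ext (hcomm a a.2 b b.2) }
      refine CommGroup.finite_of_fg_isMulTorsion _ fun z => isOfFinOrder_iff_pow_eq_one.2 ⟨p, hp.pos, ?_⟩
      obtain ⟨z, hz⟩ := z
      apply Subtype.ext
      show z ^ p = 1
      induction hz using Subgroup.closure_induction with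
      | mem a ha => rcases ha with rfl | rfl <;> assumption
      | one => exact one_pow p
      | mul a b ha hb iha ihb =>
        rw [(show Commute a b from hcomm a ha b hb).mul_pow, iha, ihb, one_mul]
      | inv a ha ih => rw [inv_pow, ih, inv_one]
    calc p ^ 2 = Nat.card (Fin p × Fin p) := by rw [Nat.card_prod, Nat.card_fin, pow_two]
      _ ≤ Nat.card (closure {x, y} : Subgroup G) := Nat.card_le_card_of_injective f hf
  · rw [closure_le]
    rintro a (rfl | rfl)
    · exact hnx
    · exact hny

/-- the four-group generated by an involution `t` and its conjugate under `y` -/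
theorem wit_of_four {x y t : G} (hx : x ^ 3 = 1) (hx1 : x ≠ 1) (hy : y ^ 3 = 1) (hxy : x * y = y * x)
    (ht : t * t = 1) (hxt : x * t = t * x) (hyt : y * t ≠ t * y)
    (h4 : t * (y * t * y⁻¹) * (y * (y * t * y⁻¹) * y⁻¹) = 1) : Wit 3 2 G := by
  have hyy : y * y * y = 1 := by rw [← hy, pow_succ, pow_two]
  set t1 := y * t * y⁻¹ with ht1
  set t2 := y * t1 * y⁻¹ with ht2
  have e1 : t1 * t1 = 1 := by
    rw [ht1]
    calc y * t * y⁻¹ * (y * t * y⁻¹) = y * (t * t) * y⁻¹ := by group
      _ = 1 := by rw [ht]; group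
  have e2 : t2 * t2 = 1 := by
    rw [ht2]
    calc y * t1 * y⁻¹ * (y * t1 * y⁻¹) = y * (t1 * t1) * y⁻¹ := by group
      _ = 1 := by rw [e1]; group
  have e3 : t * t1 = t2 := by
    have : t2⁻¹ = t2 := inv_eq_of_mul_eq_one_left e2
    rw [← this]
    exact eq_inv_of_mul_eq_one_left h4
  have e4 : t1 * t = t2 := by
    have h : (t * t1)⁻¹ = t2⁻¹ := by rw [e3]
    rw [mul_inv_rev, inv_eq_of_mul_eq_one_left ht, inv_eq_of_mul_eq_one_left e1, inv_eq_of_mul_eq_one_left e2] at h
    exact h
  have e5 : y * t2 * y⁻¹ = t := by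
    rw [ht2, ht1]
    have : y * (y * (y * t * y⁻¹) * y⁻¹) * y⁻¹ = (y * y * y) * t * (y * y * y)⁻¹ := by group
    rw [this, hyy]; group
  let V : Subgroup G :=
    { carrier := {g | g = 1 ∨ g = t ∨ g = t1 ∨ g = t2}
      one_mem' := Or.inl rfl
      mul_mem' := by
        have m1 : t * t2 = t1 := by rw [← e3, ← mul_assoc, ht, one_mul]
        have m2 : t2 * t = t1 := by rw [← e4, mul_assoc, ht, mul_one]
        have m3 : t1 * t2 = t := by rw [← e4, ← mul_assoc, e1, one_mul]
        have m4 : t2 * t1 = t := by rw [← e3, mul_assoc, e1, mul_one]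
        rintro a b (rfl | rfl | rfl | rfl) (rfl | rfl | rfl | rfl)
        · exact Or.inl (one_mul 1)
        · exact Or.inr (Or.inl (one_mul _))
        · exact Or.inr (Or.inr (Or.inl (one_mul _)))
        · exact Or.inr (Or.inr (Or.inr (one_mul _)))
        · exact Or.inr (Or.inl (mul_one _))
        · exact Or.inl ht
        · exact Or.inr (Or.inr (Or.inr e3))
        · exact Or.inr (Or.inr (Or.inl m1))
        · exact Or.inr (Or.inr (Or.inl (mul_one _)))
        · exact Or.inr (Or.inr (Or.inr e4))
        · exact Or.inl e1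
        · exact Or.inr (Or.inl m3)
        · exact Or.inr (Or.inr (Or.inr (mul_one _)))
        · exact Or.inr (Or.inr (Or.inl m2))
        · exact Or.inr (Or.inl m4)
        · exact Or.inl e2
      inv_mem' := by
        rintro a (rfl | rfl | rfl | rfl)
        · exact Or.inl inv_one
        · exact Or.inr (Or.inl (inv_eq_of_mul_eq_one_left ht))
        · exact Or.inr (Or.inr (Or.inl (inv_eq_of_mul_eq_one_left e1)))
        · exact Or.inr (Or.inr (Or.inr (inv_eq_of_mul_eq_one_left e2))) }
  have hmem : ∀ g : G, g ∈ V ↔ (g = 1 ∨ g = t ∨ g = t1 ∨ g = t2) := fun g => Iff.rfl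
  have hV2 : IsPGroup 2 V := by
    rintro ⟨g, hg⟩
    refine ⟨1, Subtype.ext ?_⟩
    change g ^ 2 ^ 1 = 1
    rw [pow_one, pow_two]
    rcases (hmem g).1 hg with rfl | rfl | rfl | rfl
    · exact one_mul 1
    · exact ht
    · exact e1
    · exact e2
  have hnt : t ≠ 1 := by
    rintro rfl
    exact hyt (by rw [mul_one, one_mul])
  have cx1 : x * t1 = t1 * x := by
    rw [ht1]
    have h1 : x * y⁻¹ = y⁻¹ * x := by
      rw [eq_inv_mul_iff_mul_eq, ← mul_assoc, ← hxy, mul_assoc, mul_inv_cancel, mul_one]
    calc x * (y * t * y⁻¹) = (x * y) * t * y⁻¹ := by group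
      _ = y * (x * t) * y⁻¹ := by rw [hxy]; group
      _ = y * t * (x * y⁻¹) := by rw [hxt]; group
      _ = y * t * y⁻¹ * x := by rw [h1]; group
  have cx2 : x * t2 = t2 * x := by
    rw [← e3, ← mul_assoc, hxt, mul_assoc, cx1, ← mul_assoc]
  refine wit_of_two Nat.prime_three hx hx1 hy ?_ hxy V hV2 ?_ ?_ ?_
  · rintro ⟨n, hn⟩
    apply hyt
    have h1 : Commute (x ^ n) t := (show Commute x t from hxt).zpow_left n
    have hn' : x ^ n = y := hn
    rw [hn'] at h1
    exact h1.eq
  · intro h0
    have : t ∈ V := (hmem t).2 (Or.inr (Or.inl rfl))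
    rw [h0, mem_bot] at this
    exact hnt this
  · rw [mem_normalizer_iff]
    have hc : ∀ g ∈ V, x * g = g * x := by
      intro g hg
      rcases (hmem g).1 hg with rfl | rfl | rfl | rfl
      · rw [mul_one, one_mul]
      · exact hxt
      · exact cx1
      · exact cx2
    intro g
    constructor
    · intro hg
      rw [hc g hg, mul_inv_cancel_right]
      exact hg
    · intro hg
      have h1 := hc _ hg
      have h2 : x * (x * g * x⁻¹) = x * g := by rw [h1, inv_mul_cancel_right]
      have h3 : x * g * x⁻¹ = g := mul_left_cancel h2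
      rwa [h3] at hg
  · have hc : ∀ g ∈ V, y * g * y⁻¹ ∈ V := by
      intro g hg
      rcases (hmem g).1 hg with rfl | rfl | rfl | rfl
      · rw [mul_one, mul_inv_cancel]; exact one_mem _
      · exact (hmem _).2 (Or.inr (Or.inr (Or.inl rfl)))
      · exact (hmem _).2 (Or.inr (Or.inr (Or.inr rfl)))
      · exact (hmem _).2 (Or.inr (Or.inl e5))
    rw [mem_normalizer_iff]
    intro g
    constructor
    · exact hc g
    · intro hg
      have h1 := hc _ (hc _ hg)
      have h2 : y * (y * (y * g * y⁻¹) * y⁻¹) * y⁻¹ = (y * y * y) * g * (y * y * y)⁻¹ := by group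
      rw [h2, hyy, one_mul, inv_one, mul_one] at h1
      exact h1

end Cfsg.Agent.H45.Thin
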