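import Cfsg.Agent.H45.Thin.Lin2
import Cfsg.Prelude.Def_Classical

/-!
# Thin groups (S2028): `PSU_n(q)` (helper45)

* `psu3` : `PSU_3(q)`, `q` odd, has a witness unless `q` is a prime with `q + 1 = 2 ^ a 3 ^ b`, `b ≤ 1`;
* `psu4_odd`, `psu_even` : `PSU_4(q)`, `q` odd, and `PSU_n(q)`, `q` even, `n ≥ 4`.
-/

set_option autoImplicit false

namespace Cfsg.Agent.H45.Thin

open Cfsg Subgroup Matrix
open Cfsg.Agent.ETable

section diag

variable {F : Type*} [Field F] {n q : ℕ}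

/-- diagonal elements of `SU` -/
def dgS (d : Fin n → F) (h : ∏ i, d i = 1) (hd : ∀ i, d i * d i ^ q = 1) : SU n F q :=
  ⟨dSL d h, by
    intro u v
    show hermForm n F q (Matrix.mulVec (Matrix.diagonal d) u) (Matrix.mulVec (Matrix.diagonal d) v) =
      hermForm n F q u v
    unfold hermForm
    refine Finset.sum_congr rfl fun i _ => ?_
    rw [Matrix.mulVec_diagonal, Matrix.mulVec_diagonal, mul_pow]
    rw [show d i * u i * (d i ^ q * v i ^ q) = (d i * d i ^ q) * (u i * v i ^ q) by ring, hd, one_mul]⟩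

/-- permutations of sign one in `F` -/
def pmS (τ : Equiv.Perm (Fin n)) (h : ((Equiv.Perm.sign τ : ℤ) : F) = 1) : SU n F q :=
  ⟨⟨τ.permMatrix F, by rw [det_permutation, h]⟩, by
    intro u v
    have h : ∀ w : Fin n → F, Matrix.mulVec (τ.permMatrix F) w = w ∘ τ := by
      intro w
      funext i
      simp [Matrix.permMatrix_mulVec]
    show hermForm n F q (Matrix.mulVec (τ.permMatrix F) u) (Matrix.mulVec (τ.permMatrix F) v) =
      hermForm n F q u v
    rw [h, h]
    unfold hermForm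
    exact Equiv.sum_comp τ (fun i => u i * v i ^ q)⟩

theorem comm_pmS {τ : Equiv.Perm (Fin n)} {h : ((Equiv.Perm.sign τ : ℤ) : F) = 1} {d : Fin n → F}
    {hd : ∏ i, d i = 1} {hdq : ∀ i, d i * d i ^ q = 1} (hc : Commute (dgS d hd hdq) (pmS (q := q) τ h)) (i : Fin n) :
    d i = d (τ i) := by
  have h1 : diagonal d * τ.permMatrix F = τ.permMatrix F * diagonal d :=
    congrArg (fun g : SU n F q => ((g : SpecialLinearGroup (Fin n) F) : Matrix (Fin n) (Fin n) F)) hc
  have h2 := congrFun (congrFun h1 i) (τ i)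
  rw [mul_diagonal, diagonal_mul] at h2
  have e1 : (τ.permMatrix F) i (τ i) = 1 := by
    simp [Equiv.Perm.permMatrix, PEquiv.toMatrix_apply]
  rw [e1, mul_one, one_mul] at h2
  exact h2

theorem dgS_center {τ : Equiv.Perm (Fin n)} (h : ((Equiv.Perm.sign τ : ℤ) : F) = 1) {d : Fin n → F}
    {hd : ∏ i, d i = 1} {hdq : ∀ i, d i * d i ^ q = 1} (hc : dgS d hd hdq ∈ center (SU n F q)) (i : Fin n) :
    d i = d (τ i) :=
  comm_pmS (h := h) (Subgroup.mem_center_iff.1 hc _).symm i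

theorem dgS_center_of {d : Fin n → F} {hd : ∏ i, d i = 1} {hdq : ∀ i, d i * d i ^ q = 1} (h : ∀ i j, d i = d j) :
    dgS d hd hdq ∈ center (SU n F q) := by
  rw [Subgroup.mem_center_iff]
  intro g
  have h1 : dSL d hd ∈ center (SpecialLinearGroup (Fin n) F) := (dSL_mem_center_iff hd).2 h
  exact Subtype.ext (Subgroup.mem_center_iff.1 h1 g)

theorem dgS_mul {d e : Fin n → F} (hd : ∏ i, d i = 1) (hdq : ∀ i, d i * d i ^ q = 1) (he : ∏ i, e i = 1)
    (heq : ∀ i, e i * e i ^ q = 1) : dgS d hd hdq * dgS e he heq =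
      dgS (q := q) (fun i => d i * e i) (by rw [Finset.prod_mul_distrib, hd, he, one_mul]) (fun i => by
        rw [mul_pow, show d i * e i * (d i ^ q * e i ^ q) = (d i * d i ^ q) * (e i * e i ^ q) by ring, hdq, heq,
          one_mul]) :=
  Subtype.ext (dSL_mul hd he)

theorem dgS_zpow {d : Fin n → F} (hd : ∏ i, d i = 1) (hdq : ∀ i, d i * d i ^ q = 1) (k : ℤ) :
    dgS d hd hdq ^ k = dgS (q := q) (fun i => d i ^ k) (by rw [Finset.prod_zpow, hd, _root_.one_zpow]) (fun i => by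
      have h1 : (d i ^ k) ^ q = (d i ^ q) ^ k := by
        rw [← _root_.zpow_natCast, ← _root_.zpow_mul, mul_comm, _root_.zpow_mul, _root_.zpow_natCast]
      rw [h1, ← _root_.mul_zpow, hdq, _root_.one_zpow]) := by
  apply Subtype.ext
  exact dSL_zpow hd k

theorem dgS_pow {d : Fin n → F} (hd : ∏ i, d i = 1) (hdq : ∀ i, d i * d i ^ q = 1) (k : ℕ) :
    dgS d hd hdq ^ k = dgS (q := q) (fun i => d i ^ k) (by rw [Finset.prod_pow, hd, one_pow]) (fun i => by
      rw [← pow_mul, mul_comm k q, pow_mul, ← mul_pow, hdq, one_pow]) :=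
  Subtype.ext (dSL_pow hd k)

theorem dgS_comm {d e : Fin n → F} (hd : ∏ i, d i = 1) (hdq : ∀ i, d i * d i ^ q = 1) (he : ∏ i, e i = 1)
    (heq : ∀ i, e i * e i ^ q = 1) : dgS d hd hdq * dgS e he heq = dgS e he heq * dgS (q := q) d hd hdq := by
  rw [dgS_mul, dgS_mul]
  congr 1
  funext i
  exact mul_comm _ _

/-- two diagonal elements and a diagonal involution -/
theorem psu_diag {p : ℕ} (hp : p.Prime) (d e : Fin n → F) (hd : ∏ i, d i = 1) (hdq : ∀ i, d i * d i ^ q = 1)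
    (he : ∏ i, e i = 1) (heq : ∀ i, e i * e i ^ q = 1)
    (hdp : ∀ i j, d i ^ p = d j ^ p) (hep : ∀ i j, e i ^ p = e j ^ p)
    (hcen : ∀ (f : Fin n → F) (hf : ∏ i, f i = 1) (hfq : ∀ i, f i * f i ^ q = 1), dgS f hf hfq ∈ center (SU n F q) →
      ∀ i j, f i = f j)
    (hd1 : ¬ ∀ i j, d i = d j) (hde : ∀ n : ℤ, ¬ ∀ i j, e i * d i ^ n = e j * d j ^ n)
    (T : Subgroup (SU n F q)) (hT : IsPGroup 2 T) (hT1 : ¬ T ≤ center (SU n F q))
    (hdT : dgS d hd hdq ∈ normalizer (T : Set (SU n F q))) (heT : dgS e he heq ∈ normalizer (T : Set (SU n F q))) :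
    Wit p 2 (PSU n F q) := by
  refine wit_quot_two (center _) hp (x := dgS d hd hdq) (y := dgS e he heq) ?_ ?_ ?_ ?_ (dgS_comm _ _ _ _) T hT hT1
    hdT heT
  · rw [dgS_pow]
    exact dgS_center_of hdp
  · rw [dgS_pow]
    exact dgS_center_of hep
  · intro h
    exact hd1 (hcen _ _ _ h)
  · intro m h
    rw [dgS_zpow, dgS_mul] at h
    exact hde m (hcen _ _ _ h)

theorem mem_norm_zpowers {G : Type*} [Group G] {x t : G} (h : x * t = t * x) : x ∈ normalizer (zpowers t : Set G) := by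
  refine Subgroup.centralizer_le_normalizer _ ?_
  rw [Subgroup.mem_centralizer_iff]
  rintro g hg
  obtain ⟨k, rfl⟩ := mem_zpowers_iff.1 hg
  exact ((show Commute t x from h.symm).zpow_left k).eq

theorem cen3 {f : Fin 3 → F} {hf : ∏ i, f i = 1} {hfq : ∀ i, f i * f i ^ q = 1}
    (h : dgS f hf hfq ∈ center (SU 3 F q)) (i j : Fin 3) : f i = f j := by
  have hs : ((Equiv.Perm.sign (finRotate 3) : ℤ) : F) = 1 := by
    have : Equiv.Perm.sign (finRotate 3) = 1 := by decide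
    rw [this]; simp
  have h0 := dgS_center hs h 0
  have h1 := dgS_center hs h 1
  have e0 : finRotate 3 0 = 1 := by decide
  have e1 : finRotate 3 1 = 2 := by decide
  rw [e0] at h0
  rw [e1] at h1
  have h2 : f 0 = f 2 := h0.trans h1
  fin_cases i <;> fin_cases j <;> first | rfl | exact h0 | exact h0.symm | exact h1 | exact h1.symm | exact h2 | exact h2.symm

end diag

section three

variable {F : Type*} [Field F] {q : ℕ}

/-- `PSU_3(q)`, `q` odd: the torus elements -/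
theorem psu3_diag (h2 : (2 : F) ≠ 0) (hodd : Odd q) {p : ℕ} (hp : p.Prime) (d e : Fin 3 → F)
    (hd : ∏ i, d i = 1) (hdq : ∀ i, d i * d i ^ q = 1)
    (he : ∏ i, e i = 1) (heq : ∀ i, e i * e i ^ q = 1)
    (hdp : ∀ i j, d i ^ p = d j ^ p) (hep : ∀ i j, e i ^ p = e j ^ p)
    (hd1 : ¬ ∀ i j, d i = d j) (hde : ∀ n : ℤ, ¬ ∀ i j, e i * d i ^ n = e j * d j ^ n) : Wit p 2 (PSU 3 F q) := by
  have ht : ∏ i, (![-1, -1, 1] : Fin 3 → F) i = 1 := by
    simp [Fin.prod_univ_three]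
  have htq : ∀ i, (![-1, -1, 1] : Fin 3 → F) i * (![-1, -1, 1] : Fin 3 → F) i ^ q = 1 := by
    intro i
    fin_cases i <;> simp [hodd.neg_one_pow]
  refine psu_diag hp d e hd hdq he heq hdp hep (fun f hf hfq h => cen3 h) hd1 hde (zpowers (dgS _ ht htq))
    (zpowers_two ?_) ?_ (mem_norm_zpowers (dgS_comm _ _ _ _)) (mem_norm_zpowers (dgS_comm _ _ _ _))
  · refine Subtype.ext (Subtype.ext ?_)
    show diagonal (![-1, -1, 1] : Fin 3 → F) * diagonal ![-1, -1, 1] = 1
    rw [diagonal_mul_diagonal, ← diagonal_one]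
    congr 1
    funext i
    fin_cases i <;> simp
  · intro h0
    have h1 := cen3 (h0 (mem_zpowers _)) 0 2
    simp at h1
    exact h2 (by linear_combination -h1)

theorem psu3_torus (h2 : (2 : F) ≠ 0) (hodd : Odd q) {p : ℕ} (hp : p.Prime) (hp3 : p ≠ 3) {c : F} (hc : c ^ p = 1)
    (hc1 : c ≠ 1) (hcq : c * c ^ q = 1) : Wit p 2 (PSU 3 F q) := by
  have hc0 : c ≠ 0 := by
    rintro rfl
    rw [zero_pow hp.ne_zero] at hc
    exact zero_ne_one hc
  have hcq' : c⁻¹ * c⁻¹ ^ q = 1 := by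
    rw [inv_pow, ← mul_inv, hcq, inv_one]
  refine psu3_diag h2 hodd hp ![c, c⁻¹, 1] ![1, c, c⁻¹] ?_ ?_ ?_ ?_ ?_ ?_ ?_ (torus_key hp hp3 hc hc1)
  · simp [Fin.prod_univ_three, hc0]
  · intro i
    fin_cases i <;> simp only [Fin.zero_eta, Fin.mk_one, Fin.reduceFinMk, Matrix.cons_val_zero,
      Matrix.cons_val_one, Matrix.cons_val, hcq, hcq', one_pow, mul_one]
  · simp [Fin.prod_univ_three, hc0]
  · intro i
    fin_cases i <;> simp only [Fin.zero_eta, Fin.mk_one, Fin.reduceFinMk, Matrix.cons_val_zero,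
      Matrix.cons_val_one, Matrix.cons_val, hcq, hcq', one_pow, mul_one]
  · intro i j
    fin_cases i <;> fin_cases j <;> simp [hc]
  · intro i j
    fin_cases i <;> fin_cases j <;> simp [hc]
  · intro h
    have := h 0 2
    simp at this
    exact hc1 this

theorem psu3_nine (h2 : (2 : F) ≠ 0) (hodd : Odd q) {c : F} (hc : c ^ 9 = 1) (hc1 : c ^ 3 ≠ 1)
    (hcq : c * c ^ q = 1) : Wit 3 2 (PSU 3 F q) := by
  have hc0 : c ≠ 0 := by
    rintro rfl
    rw [zero_pow (by norm_num)] at hc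
    exact zero_ne_one hc
  have hk : ∀ k : ℕ, c ^ k * (c ^ k) ^ q = 1 := by
    intro k
    rw [← pow_mul, mul_comm k q, pow_mul, ← mul_pow, hcq, one_pow]
  have hk' : ∀ k : ℕ, c⁻¹ ^ k * (c⁻¹ ^ k) ^ q = 1 := by
    intro k
    rw [inv_pow, inv_pow, ← mul_inv, hk, inv_one]
  refine psu3_diag h2 hodd Nat.prime_three ![c ^ 3, 1, c⁻¹ ^ 3] ![c, c, c⁻¹ ^ 2] ?_ ?_ ?_ ?_ ?_ ?_ ?_ (nine_key hc hc1)
  · simp [Fin.prod_univ_three, hc0]
  · intro i
    fin_cases i <;> simp only [Fin.zero_eta, Fin.mk_one, Fin.reduceFinMk, Matrix.cons_val_zero,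
      Matrix.cons_val_one, Matrix.cons_val, hk, hk', one_pow, mul_one]
  · rw [Fin.prod_univ_three]
    simp only [Matrix.cons_val_zero, Matrix.cons_val_one, Matrix.cons_val]
    field_simp
  · intro i
    fin_cases i <;> simp only [Fin.zero_eta, Fin.mk_one, Fin.reduceFinMk, Matrix.cons_val_zero,
      Matrix.cons_val_one, Matrix.cons_val, hcq, hk']
  · have e1 : (c ^ 3) ^ 3 = 1 := by rw [← pow_mul]; exact hc
    have e2 : (c⁻¹ ^ 3) ^ 3 = 1 := by rw [← pow_mul, inv_pow]; norm_num; exact hc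
    intro i j
    fin_cases i <;> fin_cases j <;> simp only [Fin.zero_eta, Fin.mk_one, Fin.reduceFinMk, Matrix.cons_val_zero,
      Matrix.cons_val_one, Matrix.cons_val, e1, e2, one_pow]
  · have e2 : (c⁻¹ ^ 2) ^ 3 = c ^ 3 := by
      have h1 : c⁻¹ ^ 9 = 1 := by rw [inv_pow, hc, inv_one]
      calc (c⁻¹ ^ 2) ^ 3 = c⁻¹ ^ 6 := by ring
        _ = c⁻¹ ^ 6 * (c⁻¹ ^ 3 * c ^ 3) := by rw [← mul_pow, inv_mul_cancel₀ hc0, one_pow, mul_one]
        _ = c⁻¹ ^ 9 * c ^ 3 := by ring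
        _ = c ^ 3 := by rw [h1, one_mul]
    intro i j
    fin_cases i <;> fin_cases j <;> simp only [Fin.zero_eta, Fin.mk_one, Fin.reduceFinMk, Matrix.cons_val_zero,
      Matrix.cons_val_one, Matrix.cons_val, e2]
  · intro h
    have := h 0 1
    simp only [Matrix.cons_val_zero, Matrix.cons_val_one] at this
    exact hc1 this

end three

section uni

variable {F : Type*} [Field F] {n r q : ℕ}

/-- A matrix of determinant one with `gᵀ g^σ = 1` is in `SU`. -/
theorem mem_SU_of {σ : F →+* F} (hσ : ∀ x, σ x = x ^ q) {g : SpecialLinearGroup (Fin n) F}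
    (h : (g : Matrix (Fin n) (Fin n) F)ᵀ * (g : Matrix (Fin n) (Fin n) F).map σ = 1) : g ∈ SU n F q := by
  intro u v
  show hermForm n F q ((g : Matrix (Fin n) (Fin n) F) *ᵥ u) ((g : Matrix (Fin n) (Fin n) F) *ᵥ v) = hermForm n F q u v
  have h1 : ∀ u v : Fin n → F, hermForm n F q u v = u ⬝ᵥ (fun i => σ (v i)) := by
    intro u v
    unfold hermForm dotProduct
    exact Finset.sum_congr rfl fun i _ => by rw [← hσ]
  have h2 : (fun i => σ (((g : Matrix (Fin n) (Fin n) F) *ᵥ v) i)) =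
      (g : Matrix (Fin n) (Fin n) F).map σ *ᵥ (fun i => σ (v i)) := by
    funext i
    simp only [mulVec, dotProduct, map_sum, map_mul, map_apply]
  rw [h1, h1, h2, dotProduct_mulVec, vecMul_mulVec, h, vecMul_one]

/-- the unipotent element `1 + W A W^*` -/
theorem uni_gram {σ : F →+* F} (hσσ : ∀ x, σ (σ x) = x) {W : Matrix (Fin n) (Fin r) F} {A : Matrix (Fin r) (Fin r) F}
    (hW : (W.map σ)ᵀ * W = 0) (hA : Aᵀ + A.map σ = 0) :
    (1 + W * A * (W.map σ)ᵀ)ᵀ * (1 + W * A * (W.map σ)ᵀ).map σ = 1 := by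
  have e1 : (1 + W * A * (W.map σ)ᵀ)ᵀ = 1 + W.map σ * Aᵀ * Wᵀ := by
    rw [transpose_add, transpose_one, transpose_mul, transpose_mul, transpose_transpose, Matrix.mul_assoc]
  have e2 : (1 + W * A * (W.map σ)ᵀ).map σ = 1 + W.map σ * A.map σ * Wᵀ := by
    have h1 : ((W.map σ)ᵀ).map σ = Wᵀ := by
      ext i j
      simp only [map_apply, transpose_apply, hσσ]
    rw [← h1]
    rw [Matrix.map_add _ (map_add σ), Matrix.map_one _ (map_zero σ) (map_one σ), Matrix.map_mul, Matrix.map_mul]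
  have e3 : Wᵀ * W.map σ = 0 := by
    have := congrArg transpose hW
    rwa [transpose_mul, transpose_transpose, transpose_zero] at this
  rw [e1, e2, Matrix.mul_add, Matrix.add_mul, Matrix.add_mul]
  simp only [Matrix.mul_one, Matrix.one_mul]
  have e4 : W.map σ * Aᵀ * Wᵀ * (W.map σ * A.map σ * Wᵀ) = 0 := by
    calc W.map σ * Aᵀ * Wᵀ * (W.map σ * A.map σ * Wᵀ) = W.map σ * Aᵀ * (Wᵀ * W.map σ) * (A.map σ * Wᵀ) := by
          simp only [Matrix.mul_assoc]
      _ = 0 := by rw [e3]; simp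
  rw [e4, add_zero]
  have e5 : W.map σ * Aᵀ * Wᵀ + W.map σ * A.map σ * Wᵀ = W.map σ * (Aᵀ + A.map σ) * Wᵀ := by
    rw [Matrix.mul_add, Matrix.add_mul]
  rw [add_assoc, e5, hA]
  simp

theorem uni_det {σ : F →+* F} {W : Matrix (Fin n) (Fin r) F} {A : Matrix (Fin r) (Fin r) F}
    (hW : (W.map σ)ᵀ * W = 0) : (1 + W * A * (W.map σ)ᵀ).det = 1 := by
  rw [Matrix.mul_assoc, det_one_add_mul_comm, Matrix.mul_assoc, hW]
  simp

theorem uni_mul {σ : F →+* F} {W : Matrix (Fin n) (Fin r) F} {A B : Matrix (Fin r) (Fin r) F}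
    (hW : (W.map σ)ᵀ * W = 0) :
    (1 + W * A * (W.map σ)ᵀ) * (1 + W * B * (W.map σ)ᵀ) = 1 + W * (A + B) * (W.map σ)ᵀ := by
  have h : W * A * (W.map σ)ᵀ * (W * B * (W.map σ)ᵀ) = 0 := by
    calc W * A * (W.map σ)ᵀ * (W * B * (W.map σ)ᵀ) = W * A * ((W.map σ)ᵀ * W) * (B * (W.map σ)ᵀ) := by
          simp only [Matrix.mul_assoc]
      _ = 0 := by rw [hW]; simp
  rw [mul_add, add_mul, add_mul, h]
  simp only [Matrix.mul_one, Matrix.one_mul, Matrix.mul_add, Matrix.add_mul]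
  abel

/-- trace zero elements -/
def traceHom (σ : F →+* F) : F →+ F := (AddMonoidHom.id F) + (σ : F →+ F)

theorem traceHom_apply (σ : F →+* F) (x : F) : traceHom σ x = x + σ x := rfl

theorem le_card_ker [Finite F] {σ : F →+* F} (hF : Nat.card F = q ^ 2) (hσ : ∀ x, σ x = x ^ q)
    (hσσ : ∀ x, σ (σ x) = x) : q ≤ Nat.card (traceHom σ).ker := by
  classical
  have : Fintype F := Fintype.ofFinite F
  have hq1 : 1 < q := by
    rcases Nat.lt_or_ge 1 q with h | h
    · exact h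
    · exfalso
      have h2 := Finite.one_lt_card (α := F)
      rw [hF] at h2
      interval_cases q <;> simp at h2
  have hroots : (Finset.univ.filter fun y : F => y ^ q = y).card ≤ q := by
    have h1 : (Finset.univ.filter fun y : F => y ^ q = y) ⊆ (Polynomial.X ^ q - Polynomial.X : Polynomial F).roots.toFinset := by
      intro y hy
      rw [Finset.mem_filter] at hy
      rw [Multiset.mem_toFinset, Polynomial.mem_roots (FiniteField.X_pow_card_sub_X_ne_zero F hq1)]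
      simp [Polynomial.IsRoot, hy.2]
    refine (Finset.card_le_card h1).trans ((Multiset.toFinset_card_le _).trans ?_)
    refine (Polynomial.card_roots' _).trans ?_
    rw [FiniteField.X_pow_card_sub_X_natDegree_eq F hq1]
  have hrange : Nat.card (traceHom σ).range ≤ q := by
    refine le_trans ?_ hroots
    rw [← Fintype.card_subtype, ← Nat.card_eq_fintype_card]
    have hm : ∀ y : (traceHom σ).range, (y : F) ^ q = y := by
      intro y
      obtain ⟨x, hx⟩ := y.2
      rw [← hx, traceHom_apply, ← hσ, map_add, hσσ, add_comm]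
    refine Nat.card_le_card_of_injective (fun y : (traceHom σ).range => (⟨y.1, hm y⟩ : {y : F // y ^ q = y})) ?_
    intro a b hab
    exact Subtype.ext (congrArg (fun z : {y : F // y ^ q = y} => (z : F)) hab)
  have h1 := (traceHom σ).ker.card_mul_index
  rw [AddSubgroup.index_ker, hF] at h1
  by_contra hcon
  push Not at hcon
  have h2 : Nat.card (traceHom σ).ker * Nat.card (traceHom σ).range < q * q :=
    Nat.mul_lt_mul_of_lt_of_le hcon hrange (by omega)
  rw [h1, pow_two] at h2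
  exact lt_irrefl _ h2

end uni

end Cfsg.Agent.H45.Thin
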