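import Cfsg.Agent.H45.Thin.Uni

/-!
# Thin groups (S2028): `PSU_n(q)`, rows (helper45)
-/

set_option autoImplicit false

namespace Cfsg.Agent.H45.Thin

open Cfsg Subgroup Matrix
open Cfsg.Agent.ETable

section field

variable {F : Type*} [Field F] [Finite F] {q : ℕ}

theorem exists_sigma (hF : Nat.card F = q ^ 2) : ∃ σ : F →+* F, (∀ x, σ x = x ^ q) ∧ ∀ x, σ (σ x) = x := by
  have : Fintype F := Fintype.ofFinite F
  obtain ⟨p, hcp⟩ := CharP.exists F
  have hp : p.Prime := CharP.char_is_prime F p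
  have : Fact p.Prime := ⟨hp⟩
  obtain ⟨m, hm, h⟩ := exists_card_eq F p
  have h1 : q ∣ p ^ m := by rw [← h, hF, pow_two]; exact dvd_mul_right q q
  obtain ⟨a, -, ha⟩ := (Nat.dvd_prime_pow hp).1 h1
  refine ⟨iterateFrobenius F p a, fun x => ?_, fun x => ?_⟩
  · rw [iterateFrobenius_def, ha]
  · rw [iterateFrobenius_def, iterateFrobenius_def, ← pow_mul, ← ha, ← pow_two, ← hF, Nat.card_eq_fintype_card,
      FiniteField.pow_card]

/-- `λ ^ (q + 1) = -1` -/
theorem exists_lambda (hF : Nat.card F = q ^ 2) (hodd : Odd q) : ∃ l : F, l * l ^ q = -1 := by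
  have : Fintype F := Fintype.ofFinite F
  classical
  obtain ⟨g, hg⟩ := IsCyclic.exists_generator (α := Fˣ)
  have hord : orderOf g = q ^ 2 - 1 := by
    rw [orderOf_eq_card_of_forall_mem_zpowers hg, Nat.card_units, hF]
  obtain ⟨c, hc⟩ := hodd
  have hc0 : 1 ≤ c := by
    rcases Nat.eq_zero_or_pos c with h | h
    · exfalso
      subst h
      have h2 := Finite.one_lt_card (α := F)
      rw [hF, hc] at h2
      simp at h2
    · exact h
  have h1 : q ^ 2 - 1 = 2 * (c * (q + 1)) := by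
    subst hc
    have : (2 * c + 1) ^ 2 = 2 * (c * (2 * c + 1 + 1)) + 1 := by ring
    omega
  refine ⟨((g ^ c : Fˣ) : F), ?_⟩
  have h2 : (g ^ c) * (g ^ c) ^ q = g ^ (c * (q + 1)) := by
    rw [← pow_succ', ← pow_mul]
  have h3 : (g ^ (c * (q + 1))) ^ 2 = 1 := by
    rw [← pow_mul, mul_comm _ 2, ← h1, ← hord, pow_orderOf_eq_one]
  have h4 : g ^ (c * (q + 1)) ≠ 1 := by
    intro h
    have h5 := orderOf_dvd_of_pow_eq_one h
    rw [hord, h1] at h5
    have h6 : 0 < c * (q + 1) := by positivity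
    have := Nat.le_of_dvd h6 h5
    omega
  have h5 : ((g ^ (c * (q + 1)) : Fˣ) : F) = -1 := by
    have h6 : ((g ^ (c * (q + 1)) : Fˣ) : F) ^ 2 = 1 := by
      rw [← Units.val_pow_eq_pow_val, h3, Units.val_one]
    rcases sq_eq_one_iff.1 h6 with h | h
    · exact absurd (Units.ext h) h4
    · exact h
  rw [← h5, ← h2]
  push_cast
  rfl

/-- `q` is a power of the characteristic -/
theorem exists_q_eq {p : ℕ} [CharP F p] (hF : Nat.card F = q ^ 2) : ∃ a : ℕ, 1 ≤ a ∧ q = p ^ a := by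
  have : Fintype F := Fintype.ofFinite F
  have hp : p.Prime := CharP.char_is_prime F p
  obtain ⟨m, hm, h⟩ := exists_card_eq F p
  have h1 : q ∣ p ^ m := by rw [← h, hF, pow_two]; exact dvd_mul_right q q
  obtain ⟨a, -, ha⟩ := (Nat.dvd_prime_pow hp).1 h1
  refine ⟨a, ?_, ha⟩
  rcases Nat.eq_zero_or_pos a with h0 | h0
  · exfalso
    subst h0
    rw [pow_zero] at ha
    rw [ha, one_pow] at hF
    have := Finite.one_lt_card (α := F)
    omega
  · exact h0

end field

section gen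

variable {F : Type*} [Field F] {n r q : ℕ}

/-- the unipotent elements -/
def uniE {σ : F →+* F} (hσ : ∀ x, σ x = x ^ q) (hσσ : ∀ x, σ (σ x) = x) {W : Matrix (Fin n) (Fin r) F}
    (hW : (W.map σ)ᵀ * W = 0) : Multiplicative (Fin r → (traceHom σ).ker) →* SU n F q where
  toFun x := ⟨⟨1 + W * diagonal (fun j => (x.toAdd j : F)) * (W.map σ)ᵀ, uni_det hW⟩,
    mem_SU_of hσ (uni_gram hσσ hW (by
      rw [diagonal_transpose, diagonal_map (map_zero σ), diagonal_add, ← diagonal_zero]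
      congr 1
      funext j
      exact (x.toAdd j).2))⟩
  map_one' := by
    refine Subtype.ext (Subtype.ext ?_)
    show 1 + W * diagonal (fun _ => (0 : F)) * (W.map σ)ᵀ = 1
    rw [diagonal_zero]
    simp
  map_mul' x y := by
    refine Subtype.ext (Subtype.ext ?_)
    show 1 + W * diagonal (fun j => (x.toAdd j : F) + (y.toAdd j : F)) * (W.map σ)ᵀ =
      (1 + W * diagonal (fun j => (x.toAdd j : F)) * (W.map σ)ᵀ) *
        (1 + W * diagonal (fun j => (y.toAdd j : F)) * (W.map σ)ᵀ)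
    rw [uni_mul hW, diagonal_add]

theorem psu_uni [Finite F] {p : ℕ} [CharP F p] (hp2 : p ≠ 2) {σ : F →+* F} (hσ : ∀ x, σ x = x ^ q)
    (hσσ : ∀ x, σ (σ x) = x) {W : Matrix (Fin n) (Fin r) F} (hW : (W.map σ)ᵀ * W = 0) (hodd : Odd q)
    (a b : Fin r → Fin n) (s : F) (hs : s ≠ 0)
    (hent : ∀ (c : Fin r → F) (j : Fin r), (W * diagonal c * (W.map σ)ᵀ) (a j) (b j) = c j * s)
    (hab : ∀ j, a j ≠ b j) (D t : Fin n → F) (hD : ∏ i, D i = 1) (hD1 : ∀ i, D i = 1 ∨ D i = -1)
    (ht : ∏ i, t i = 1) (ht1 : ∀ i, t i = 1 ∨ t i = -1) (hDab : ∀ j, D (a j) = 1 ∧ D (b j) = -1)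
    (ε : Fin r → F) (hε : ∀ j, ε j = 1 ∨ ε j = -1) (htW : ∀ i j, t i * W i j = W i j * ε j) (τ : Equiv.Perm (Fin n)) (hτ : Equiv.Perm.sign τ = 1) (i₀ : Fin n)
    (hi : t i₀ ≠ t (τ i₀)) (hc : p ^ 2 ≤ Nat.card (traceHom σ).ker ^ r) : Wit p 2 (PSU n F q) := by
  have h2 : (2 : F) ≠ 0 := by
    intro h
    have h1 : (p : ℕ) ∣ 2 := (CharP.cast_eq_zero_iff F p 2).1 (by exact_mod_cast h)
    exact hp2 ((Nat.prime_dvd_prime_iff_eq (CharP.char_is_prime F p) Nat.prime_two).1 h1)
  have hneg : ∀ x : F, x = 1 ∨ x = -1 → x * x ^ q = 1 := by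
    rintro x (rfl | rfl)
    · simp
    · rw [hodd.neg_one_pow]; ring
  have htt : dgS (q := q) t ht (fun i => hneg _ (ht1 i)) * dgS t ht (fun i => hneg _ (ht1 i)) = 1 := by
    refine Subtype.ext (Subtype.ext ?_)
    show diagonal t * diagonal t = 1
    rw [diagonal_mul_diagonal, ← diagonal_one]
    congr 1
    funext i
    rcases ht1 i with h | h <;> rw [h] <;> ring
  refine Wit.of_quot (center (SU n F q)) (uniE hσ hσσ hW) ?_ ?_ ?_ (zpowers (dgS t ht (fun i => hneg _ (ht1 i))))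
    (zpowers_two htt) ?_ ?_
  · intro x hx
    have h1 : Commute (uniE hσ hσσ hW x) (dgS D hD (fun i => hneg _ (hD1 i))) := (Subgroup.mem_center_iff.1 hx _).symm
    have h3 : (1 + W * diagonal (fun j => (x.toAdd j : F)) * (W.map σ)ᵀ) * diagonal D =
        diagonal D * (1 + W * diagonal (fun j => (x.toAdd j : F)) * (W.map σ)ᵀ) :=
      congrArg (fun g : SU n F q => ((g : SpecialLinearGroup (Fin n) F) : Matrix (Fin n) (Fin n) F)) h1
    refine Multiplicative.toAdd.injective ?_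
    rw [toAdd_one]
    funext j
    have h5 := congrFun (congrFun h3 (a j)) (b j)
    rw [mul_diagonal, diagonal_mul, Matrix.add_apply, one_apply_ne (hab j), zero_add, (hDab j).1, (hDab j).2,
      hent (fun j => (x.toAdd j : F)) j] at h5
    have h6 : (x.toAdd j : F) * s * 2 = 0 := by linear_combination -h5
    have h7 : (x.toAdd j : F) = 0 := by
      rcases mul_eq_zero.1 h6 with h | h
      · exact (mul_eq_zero.1 h).resolve_right hs
      · exact absurd h h2
    exact Subtype.ext h7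
  · intro x
    refine Multiplicative.toAdd.injective ?_
    rw [toAdd_pow, toAdd_one]
    funext j
    refine Subtype.ext ?_
    show p • (x.toAdd j : F) = 0
    rw [nsmul_eq_mul, CharP.cast_eq_zero, zero_mul]
  · have h1 : Nat.card (Multiplicative (Fin r → (traceHom σ).ker)) = Nat.card (traceHom σ).ker ^ r := by
      show Nat.card (Fin r → (traceHom σ).ker) = _
      rw [Nat.card_fun]; simp
    rw [h1]
    exact hc
  · intro h0
    have h1 := h0 (mem_zpowers _)
    exact hi (dgS_center (by rw [hτ]; simp) h1 i₀)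
  · intro x
    refine mem_norm_zpowers ?_
    refine Subtype.ext (Subtype.ext ?_)
    show (1 + W * diagonal (fun j => (x.toAdd j : F)) * (W.map σ)ᵀ) * diagonal t =
      diagonal t * (1 + W * diagonal (fun j => (x.toAdd j : F)) * (W.map σ)ᵀ)
    have e1 : diagonal t * W = W * diagonal ε := by
      ext i j
      rw [diagonal_mul, mul_diagonal]
      exact htW i j
    have hσ1 : ∀ x : F, x = 1 ∨ x = -1 → σ x = x := by
      rintro x (rfl | rfl)
      · exact map_one σ
      · rw [map_neg, map_one]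
    have e2 : (W.map σ)ᵀ * diagonal t = diagonal ε * (W.map σ)ᵀ := by
      ext i j
      rw [mul_diagonal, diagonal_mul, transpose_apply, map_apply]
      have h := congrArg σ (htW j i)
      rw [map_mul, map_mul, hσ1 _ (ht1 j), hσ1 _ (hε i)] at h
      rw [mul_comm, h, mul_comm]
    have e3 : diagonal (fun j => (x.toAdd j : F)) * diagonal ε = diagonal ε * diagonal (fun j => (x.toAdd j : F)) := by
      rw [diagonal_mul_diagonal, diagonal_mul_diagonal]
      congr 1
      funext j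
      exact mul_comm _ _
    rw [Matrix.add_mul, Matrix.mul_add, Matrix.one_mul, Matrix.mul_one]
    congr 1
    calc W * diagonal (fun j => (x.toAdd j : F)) * (W.map σ)ᵀ * diagonal t =
          W * (diagonal (fun j => (x.toAdd j : F)) * ((W.map σ)ᵀ * diagonal t)) := by simp only [Matrix.mul_assoc]
      _ = W * (diagonal (fun j => (x.toAdd j : F)) * diagonal ε * (W.map σ)ᵀ) := by rw [e2, Matrix.mul_assoc]
      _ = W * diagonal ε * diagonal (fun j => (x.toAdd j : F)) * (W.map σ)ᵀ := by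
        rw [e3]; simp only [Matrix.mul_assoc]
      _ = diagonal t * (W * diagonal (fun j => (x.toAdd j : F)) * (W.map σ)ᵀ) := by
        rw [← e1]; simp only [Matrix.mul_assoc]

end gen

/-- `PSU_3(q)`, `q` odd, not a prime -/
theorem psu3_char {F : Type*} [Field F] [Finite F] {q p : ℕ} [CharP F p] (hF : Nat.card F = q ^ 2) (hodd : Odd q)
    (hp2 : p ≠ 2) (hq : q ≠ p) : Wit p 2 (PSU 3 F q) := by
  have hp : p.Prime := CharP.char_is_prime F p
  obtain ⟨σ, hσ, hσσ⟩ := exists_sigma hF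
  obtain ⟨l, hl'⟩ := exists_lambda hF hodd
  have hl : l * σ l = -1 := by rw [hσ]; exact hl'
  have hl0 : σ l ≠ 0 := by
    intro h
    rw [h, mul_zero] at hl
    exact one_ne_zero (neg_eq_zero.1 hl.symm)
  obtain ⟨a, ha, hqa⟩ := exists_q_eq (p := p) hF
  have h2 : (2 : F) ≠ 0 := by
    intro h
    have h1 : (p : ℕ) ∣ 2 := (CharP.cast_eq_zero_iff F p 2).1 (by exact_mod_cast h)
    exact hp2 ((Nat.prime_dvd_prime_iff_eq (CharP.char_is_prime F p) Nat.prime_two).1 h1)
  refine psu_uni (r := 1) hp2 hσ hσσ (W := Matrix.of fun i _ => (![1, l, 0] : Fin 3 → F) i) ?_ hodd ![0] ![1] (σ l) hl0 ?_ ?_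
    ![1, -1, -1] ![-1, -1, 1] ?_ ?_ ?_ ?_ ?_ (fun _ => -1) (fun _ => Or.inr rfl) ?_ (finRotate 3) (by decide) 1 ?_ ?_
  · ext i j
    rw [mul_apply, Fin.sum_univ_three]
    simp
    linear_combination hl
  · intro c j
    fin_cases j
    rw [mul_apply]
    simp [mul_apply, Fin.sum_univ_one]
  · intro j
    fin_cases j
    simp
  · simp [Fin.prod_univ_three]
  · intro i
    fin_cases i <;> simp
  · simp [Fin.prod_univ_three]
  · intro i
    fin_cases i <;> simp
  · intro j
    fin_cases j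
    simp
  · intro i j
    fin_cases i <;> simp
  · have e1 : finRotate 3 1 = 2 := by decide
    rw [e1]
    simp
    intro h
    exact h2 (by linear_combination -h)
  · rw [pow_one]
    refine le_trans ?_ (le_card_ker hF hσ hσσ)
    rw [hqa]
    refine Nat.pow_le_pow_right hp.pos ?_
    rcases Nat.lt_or_ge a 2 with h | h
    · exfalso
      have : a = 1 := by omega
      rw [this, pow_one] at hqa
      exact hq hqa
    · exact h

/-- `PSU_4(q)`, `q` odd -/
theorem psu4_char {F : Type*} [Field F] [Finite F] {q p : ℕ} [CharP F p] (hF : Nat.card F = q ^ 2) (hodd : Odd q)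
    (hp2 : p ≠ 2) : Wit p 2 (PSU 4 F q) := by
  have hp : p.Prime := CharP.char_is_prime F p
  obtain ⟨σ, hσ, hσσ⟩ := exists_sigma hF
  obtain ⟨l, hl'⟩ := exists_lambda hF hodd
  have hl : l * σ l = -1 := by rw [hσ]; exact hl'
  have hl0 : σ l ≠ 0 := by
    intro h
    rw [h, mul_zero] at hl
    exact one_ne_zero (neg_eq_zero.1 hl.symm)
  obtain ⟨a, ha, hqa⟩ := exists_q_eq (p := p) hF
  have h2 : (2 : F) ≠ 0 := by
    intro h
    have h1 : (p : ℕ) ∣ 2 := (CharP.cast_eq_zero_iff F p 2).1 (by exact_mod_cast h)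
    exact hp2 ((Nat.prime_dvd_prime_iff_eq (CharP.char_is_prime F p) Nat.prime_two).1 h1)
  refine psu_uni (r := 2) hp2 hσ hσσ (W := Matrix.of fun i j => (![![1, l, 0, 0], ![0, 0, 1, l]] : Fin 2 → Fin 4 → F) j i)
    ?_ hodd ![0, 2] ![1, 3] (σ l) hl0 ?_ ?_
    ![1, -1, 1, -1] ![-1, -1, 1, 1] ?_ ?_ ?_ ?_ ?_ ![-1, 1] ?_ ?_ (Equiv.swap 0 2 * Equiv.swap 1 3) (by decide) 0 ?_ ?_
  · ext i j
    rw [mul_apply, Fin.sum_univ_four]
    fin_cases i <;> fin_cases j <;> simp
    · linear_combination hl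
    · linear_combination hl
  · intro c j
    rw [mul_apply]
    fin_cases j <;> simp [mul_apply, Fin.sum_univ_two]
  · intro j
    fin_cases j <;> simp
  · simp [Fin.prod_univ_four]
  · intro i
    fin_cases i <;> simp
  · simp [Fin.prod_univ_four]
  · intro i
    fin_cases i <;> simp
  · intro j
    fin_cases j <;> simp
  · intro j
    fin_cases j <;> simp
  · intro i j
    fin_cases i <;> fin_cases j <;> simp
  · have e1 : (Equiv.swap (0 : Fin 4) 2 * Equiv.swap 1 3 : Equiv.Perm (Fin 4)) 0 = 2 := by decide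
    rw [e1]
    simp
    intro h
    exact h2 (by linear_combination -h)
  · refine Nat.pow_le_pow_left ?_ 2
    refine le_trans ?_ (le_card_ker hF hσ hσσ)
    rw [hqa]
    exact Nat.le_self_pow (by omega) p

/-- `c ^ k = 1`, `k ∣ q + 1` -/
theorem exists_dvd_succ {F : Type*} [Field F] [Finite F] {q : ℕ} (hF : Nat.card F = q ^ 2) {p : ℕ} (hp : p.Prime)
    (h : p ∣ q + 1) : ∃ c : F, c ^ p = 1 ∧ c ≠ 1 ∧ c * c ^ q = 1 := by
  have h1 : p ∣ Nat.card F - 1 := by
    rw [hF]
    have : q ^ 2 - 1 = (q + 1) * (q - 1) := by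
      rcases q with _ | q
      · rfl
      · have : (q + 1) ^ 2 = (q + 1 + 1) * (q + 1 - 1) + 1 := by
          rw [Nat.add_sub_cancel]; ring
        omega
    rw [this]
    exact h.trans (dvd_mul_right _ _)
  obtain ⟨c, hc, hc1⟩ := Exc.exists_unit_of_dvd F hp h1
  refine ⟨c, hc, hc1, ?_⟩
  obtain ⟨k, hk⟩ := h
  rw [← pow_succ', hk, pow_mul, hc, one_pow]

theorem exists_nine_succ {F : Type*} [Field F] [Finite F] {q : ℕ} (hF : Nat.card F = q ^ 2)
    (h : 9 ∣ q + 1) : ∃ c : F, c ^ 9 = 1 ∧ c ^ 3 ≠ 1 ∧ c * c ^ q = 1 := by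
  have h1 : 9 ∣ Nat.card F - 1 := by
    rw [hF]
    have : q ^ 2 - 1 = (q + 1) * (q - 1) := by
      rcases q with _ | q
      · rfl
      · have : (q + 1) ^ 2 = (q + 1 + 1) * (q + 1 - 1) + 1 := by
          rw [Nat.add_sub_cancel]; ring
        omega
    rw [this]
    exact h.trans (dvd_mul_right _ _)
  obtain ⟨c, hc, hc1⟩ := exists_nine F h1
  refine ⟨c, hc, hc1, ?_⟩
  obtain ⟨k, hk⟩ := h
  rw [← pow_succ', hk, pow_mul, hc, one_pow]

/-- **`PSU_3(q)`, `q` odd** -/
theorem psu3 {F : Type*} [Field F] [Finite F] {q : ℕ} (hF : Nat.card F = q ^ 2) (hodd : Odd q) :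
    (∃ a b : ℕ, q.Prime ∧ q + 1 = 2 ^ a * 3 ^ b ∧ b ≤ 1) ∨
    ∃ p : ℕ, p.Prime ∧ p ≠ 2 ∧ Wit p 2 (PSU 3 F q) := by
  by_contra hcon
  push Not at hcon
  obtain ⟨hp, hw⟩ := hcon
  obtain ⟨p, hcp⟩ := CharP.exists F
  have hpp : p.Prime := CharP.char_is_prime F p
  obtain ⟨m, hm, hqm⟩ := exists_q_eq (p := p) hF
  have hp2 : p ≠ 2 := by
    rintro rfl
    rw [hqm] at hodd
    exact (Nat.not_even_iff_odd.2 hodd) (even_two.pow_of_ne_zero (by omega))
  have h2 : (2 : F) ≠ 0 := by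
    intro h
    have h1 : (p : ℕ) ∣ 2 := (CharP.cast_eq_zero_iff F p 2).1 (by exact_mod_cast h)
    exact hp2 ((Nat.prime_dvd_prime_iff_eq hpp Nat.prime_two).1 h1)
  obtain ⟨a, b, hab, hb⟩ := two_three (n := q + 1) (by omega) (by
    intro r hr hrd
    by_contra hr23
    push Not at hr23
    obtain ⟨c, hc, hc1, hcq⟩ := exists_dvd_succ hF hr hrd
    exact hw r hr hr23.1 (psu3_torus h2 hodd hr hr23.2 hc hc1 hcq)) (by
    intro h9
    obtain ⟨c, hc, hc1, hcq⟩ := exists_nine_succ hF h9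
    exact hw 3 Nat.prime_three (by norm_num) (psu3_nine h2 hodd hc hc1 hcq))
  have hq : q = p := by
    by_contra hne
    exact hw p hpp hp2 (psu3_char hF hodd hp2 hne)
  exact absurd hb (by
    have := hp a b (hq ▸ hpp) hab
    omega)

/-- **`PSU_n(q)`, `q` even, `n ≥ 4`** -/
theorem psu_even {F : Type*} [Field F] [Finite F] [CharP F 2] {n q : ℕ} (hF : Nat.card F = q ^ 2) (hn : 4 ≤ n) :
    ∃ p : ℕ, p.Prime ∧ p ≠ 2 ∧ Wit p 2 (PSU n F q) := by
  obtain ⟨m, rfl⟩ : ∃ m, n = m + 4 := ⟨n - 4, by omega⟩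
  obtain ⟨k, hk, hqk⟩ := exists_q_eq (p := 2) hF
  have h2 : (2 : F) = 0 := by exact_mod_cast CharP.cast_eq_zero F 2
  have hneg1 : (-1 : F) = 1 := by linear_combination -h2
  have hq2 : 2 ∣ q := by
    rw [hqk]
    exact dvd_pow_self 2 (by omega)
  obtain ⟨p, hp, hpd⟩ := Nat.exists_prime_and_dvd (show q + 1 ≠ 1 by
    rw [hqk]
    have := Nat.one_le_two_pow (n := k)
    omega)
  have hp2 : p ≠ 2 := by
    rintro rfl
    omega
  obtain ⟨c, hc, hc1, hcq⟩ := exists_dvd_succ hF hp hpd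
  refine ⟨p, hp, hp2, ?_⟩
  have hc0 : c ≠ 0 := by
    rintro rfl
    rw [zero_pow hp.ne_zero] at hc
    exact zero_ne_one hc
  let d : Fin (m + 4) → F := Fin.cons c (Fin.cons c (Fin.cons (c⁻¹ ^ 2) (fun _ => 1)))
  let e : Fin (m + 4) → F := Fin.cons 1 (Fin.cons 1 (Fin.cons c (Fin.cons c⁻¹ (fun _ => 1))))
  have hcq' : c⁻¹ * c⁻¹ ^ q = 1 := by
    rw [inv_pow, ← mul_inv, hcq, inv_one]
  have hcq2 : c⁻¹ ^ 2 * (c⁻¹ ^ 2) ^ q = 1 := by
    rw [← pow_mul, mul_comm 2 q, pow_mul, ← mul_pow, hcq', one_pow]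
  have hd : ∏ i, d i = 1 := by
    rw [Fin.prod_univ_succ, Fin.prod_univ_succ, Fin.prod_univ_succ]
    show c * (c * (c⁻¹ ^ 2 * ∏ i : Fin (m + 1), (1 : F))) = 1
    rw [Finset.prod_const_one, mul_one]
    field_simp
  have he : ∏ i, e i = 1 := by
    rw [Fin.prod_univ_succ, Fin.prod_univ_succ, Fin.prod_univ_succ, Fin.prod_univ_succ]
    show (1 : F) * (1 * (c * (c⁻¹ * ∏ i : Fin m, (1 : F)))) = 1
    rw [Finset.prod_const_one, mul_one, one_mul, one_mul, mul_inv_cancel₀ hc0]
  have hdq : ∀ i, d i * d i ^ q = 1 := by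
    intro i
    refine Fin.cases hcq (fun i => Fin.cases hcq (fun i => Fin.cases hcq2 (fun i => ?_) i) i) i
    show (1 : F) * 1 ^ q = 1
    rw [one_pow, one_mul]
  have heq : ∀ i, e i * e i ^ q = 1 := by
    intro i
    refine Fin.cases ?_ (fun i => Fin.cases ?_ (fun i => Fin.cases hcq (fun i => Fin.cases hcq' (fun i => ?_) i) i) i) i
    · show (1 : F) * 1 ^ q = 1
      rw [one_pow, one_mul]
    · show (1 : F) * 1 ^ q = 1
      rw [one_pow, one_mul]
    · show (1 : F) * 1 ^ q = 1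
      rw [one_pow, one_mul]
  have hcp' : c⁻¹ ^ p = 1 := by rw [inv_pow, hc, inv_one]
  have hdp : ∀ i, d i ^ p = 1 := by
    intro i
    refine Fin.cases hc (fun i => Fin.cases hc (fun i => Fin.cases ?_ (fun i => ?_) i) i) i
    · show (c⁻¹ ^ 2) ^ p = 1
      rw [← pow_mul, mul_comm, pow_mul, hcp', one_pow]
    · show (1 : F) ^ p = 1
      exact one_pow p
  have hep : ∀ i, e i ^ p = 1 := by
    intro i
    refine Fin.cases (one_pow p) (fun i => Fin.cases (one_pow p) (fun i => Fin.cases hc (fun i => Fin.cases hcp'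
      (fun i => one_pow p) i) i) i) i
  have hsign : ∀ τ : Equiv.Perm (Fin (m + 4)), ((Equiv.Perm.sign τ : ℤ) : F) = 1 := by
    intro τ
    rcases Int.units_eq_one_or (Equiv.Perm.sign τ) with h | h
    · rw [h]; simp
    · rw [h]; simp [hneg1]
  let i0 : Fin (m + 4) := 0
  let i1 : Fin (m + 4) := (0 : Fin (m + 3)).succ
  let i2 : Fin (m + 4) := (0 : Fin (m + 2)).succ.succ
  let i3 : Fin (m + 4) := (0 : Fin (m + 1)).succ.succ.succ
  have h01 : i0 ≠ i1 := by
    intro h
    exact absurd (congrArg Fin.val h) (by simp [i0, i1])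
  have h12 : i1 ≠ i2 := by
    intro h
    exact absurd (congrArg Fin.val h) (by
      have := Nat.mod_eq_of_lt (show 2 < m + 4 by omega)
      simp [i1, i2]
      omega)
  have h02 : i0 ≠ i2 := by
    intro h
    exact absurd (congrArg Fin.val h) (by
      have := Nat.mod_eq_of_lt (show 2 < m + 4 by omega)
      simp [i0, i2]
      omega)
  have hpm : pmS (q := q) (Equiv.swap i0 i1) (hsign _) * pmS (Equiv.swap i0 i1) (hsign _) = 1 := by
    refine Subtype.ext (Subtype.ext ?_)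
    show (Equiv.swap i0 i1).permMatrix F * (Equiv.swap i0 i1).permMatrix F = 1
    rw [← Matrix.permMatrix_mul, Equiv.swap_mul_self, Matrix.permMatrix_one]
  have hcomm : ∀ (f : Fin (m + 4) → F) (hf : ∏ i, f i = 1) (hfq : ∀ i, f i * f i ^ q = 1), f i0 = f i1 →
      dgS f hf hfq * pmS (q := q) (Equiv.swap i0 i1) (hsign _) = pmS (Equiv.swap i0 i1) (hsign _) * dgS f hf hfq := by
    intro f hf hfq hf01
    refine Subtype.ext (Subtype.ext ?_)
    show diagonal f * (Equiv.swap i0 i1).permMatrix F = (Equiv.swap i0 i1).permMatrix F * diagonal f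
    ext i j
    rw [diagonal_mul, mul_diagonal]
    by_cases hij : (Equiv.swap i0 i1) i = j
    · have : f i = f j := by
        subst hij
        by_cases hi0 : i = i0
        · subst hi0
          rw [Equiv.swap_apply_left]
          exact hf01
        · by_cases hi1 : i = i1
          · subst hi1
            rw [Equiv.swap_apply_right]
            exact hf01.symm
          · rw [Equiv.swap_apply_of_ne_of_ne hi0 hi1]
      rw [this, mul_comm]
    · have : (Equiv.swap i0 i1).permMatrix F i j = 0 := by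
        simp [Equiv.Perm.permMatrix, PEquiv.toMatrix_apply, hij]
      rw [this, mul_zero, zero_mul]
  refine psu_diag hp d e hd hdq he heq (fun i j => by rw [hdp, hdp]) (fun i j => by rw [hep, hep]) ?_ ?_ ?_
    (zpowers (pmS (q := q) (Equiv.swap i0 i1) (hsign _))) (zpowers_two hpm) ?_
    (mem_norm_zpowers (hcomm d hd hdq rfl)) (mem_norm_zpowers (hcomm e he heq rfl))
  · intro f hf hfq h i j
    have h1 := dgS_center (hsign (Equiv.swap i j)) h i
    rwa [Equiv.swap_apply_left] at h1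
  · intro h
    have h1 : c = 1 := h i0 i3
    exact hc1 h1
  · intro k h
    have h1 : (1 : F) * c ^ k = c⁻¹ * 1 ^ k := h i0 i3
    have h3 : c * (c⁻¹ ^ 2) ^ k = c⁻¹ * 1 ^ k := h i2 i3
    rw [one_mul, _root_.one_zpow, mul_one] at h1
    rw [_root_.one_zpow, mul_one, inv_pow, _root_.inv_zpow] at h3
    have h4 : (c ^ 2) ^ k = (c ^ k) ^ 2 := by
      rw [← _root_.zpow_natCast, ← _root_.zpow_natCast, ← _root_.zpow_mul, ← _root_.zpow_mul, mul_comm]
    rw [h4, h1, inv_pow, inv_inv] at h3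
    have h5 : c ^ 4 = 1 := by
      calc c ^ 4 = c * c ^ 2 * c := by ring
        _ = 1 := by rw [h3, inv_mul_cancel₀ hc0]
    have h6 : c = 1 := by
      have h7 : orderOf c ∣ 4 := orderOf_dvd_of_pow_eq_one h5
      have h8 : orderOf c ∣ p := orderOf_dvd_of_pow_eq_one hc
      have hcop : Nat.Coprime 4 p := by
        have : Nat.Coprime 2 p := (Nat.coprime_primes Nat.prime_two hp).2 hp2.symm
        exact Nat.Coprime.pow_left 2 this
      have h9 : orderOf c ∣ 1 := by
        rw [← hcop.gcd_eq_one]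
        exact Nat.dvd_gcd h7 h8
      exact orderOf_eq_one_iff.1 (Nat.dvd_one.1 h9)
    exact hc1 h6
  · intro h0
    have h1 := h0 (mem_zpowers _)
    have h3 : (pmS (F := F) (q := q) (Equiv.swap i1 i2) (hsign _)) * (pmS (Equiv.swap i0 i1) (hsign _)) =
      (pmS (Equiv.swap i0 i1) (hsign _)) * (pmS (Equiv.swap i1 i2) (hsign _)) := Subgroup.mem_center_iff.1 h1 _
    have h4 : (Equiv.swap i1 i2).permMatrix F * (Equiv.swap i0 i1).permMatrix F =
        (Equiv.swap i0 i1).permMatrix F * (Equiv.swap i1 i2).permMatrix F :=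
      congrArg (fun g : SU (m + 4) F q => ((g : SpecialLinearGroup (Fin (m + 4)) F) :
        Matrix (Fin (m + 4)) (Fin (m + 4)) F)) h3
    rw [← Matrix.permMatrix_mul, ← Matrix.permMatrix_mul] at h4
    have h5 := congrFun (congrFun h4 i0) i1
    have e1 : ∀ (τ : Equiv.Perm (Fin (m + 4))) i j, (τ.permMatrix F) i j = if τ i = j then 1 else 0 := by
      intro τ i j
      simp [Equiv.Perm.permMatrix, PEquiv.toMatrix_apply]
    rw [e1, e1] at h5
    have a1 : (Equiv.swap i0 i1 * Equiv.swap i1 i2) i0 = i1 := by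
      rw [Equiv.Perm.mul_apply, Equiv.swap_apply_of_ne_of_ne h01 h02, Equiv.swap_apply_left]
    have a2 : (Equiv.swap i1 i2 * Equiv.swap i0 i1) i0 = i2 := by
      rw [Equiv.Perm.mul_apply, Equiv.swap_apply_left, Equiv.swap_apply_left]
    rw [a1, a2, if_pos rfl, if_neg (Ne.symm h12)] at h5
    exact one_ne_zero h5

end Cfsg.Agent.H45.Thin
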